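import Mathlib

/-! Maximal etale subalgebras of absolutely semisimple algebras are self-centralizing. -/

set_option autoImplicit false
set_option linter.style.haveILetI false
set_option linter.unusedSectionVars false

universe u v

open TensorProduct Polynomial

namespace Groth.Etale71

theorem exists_mul_mul_eq {B : Type v} [Ring B] [IsSemisimpleRing B] (x : B) : ∃ c, x * c * x = x := by
  obtain ⟨q, hq⟩ := exists_isCompl (Ideal.span ({x} : Set B))
  let p := (Ideal.span ({x} : Set B)).projectionOnto q hq
  obtain ⟨c, hc⟩ := Ideal.mem_span_singleton'.1 (p 1).2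
  refine ⟨c, ?_⟩
  have h : p x = x • p 1 := by rw [← map_smul, smul_eq_mul, mul_one]
  have h' : p x = (⟨x, Ideal.mem_span_singleton_self x⟩ : Ideal.span ({x} : Set B)) :=
    Submodule.projectionOnto_apply_left hq ⟨x, Ideal.mem_span_singleton_self x⟩
  have := congrArg Subtype.val (h.symm.trans h')
  rw [Submodule.coe_smul, smul_eq_mul, ← hc, ← mul_assoc] at this
  exact this

theorem eq_zero_of_mul_mul {B : Type v} [Ring B] [IsSemisimpleRing B] (x : B) (h : ∀ y, x * y * x = 0) : x = 0 := by
  obtain ⟨c, hc⟩ := exists_mul_mul_eq x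
  rw [← hc, h]

theorem eq_zero_of_commute_list {K : Type u} [Field K] {B : Type v} [Ring B] [Algebra K B]
    (hB : ∀ x : B, (∀ y, x * y * x = 0) → x = 0) :
    ∀ T : List B, (∀ s ∈ T, ∀ t ∈ T, Commute s t) → (∀ t ∈ T, ∃ s : Finset K, aeval t (Lagrange.nodal s id) = 0) →
      ∀ x : B, (∀ t ∈ T, Commute x t) → (∀ y, (∀ t ∈ T, Commute y t) → x * y * x = 0) → x = 0
  | [], _, _, x, _, h => hB x fun y => h y (by simp)
  | t :: T, hcomm, hss, x, hx, h => by
    classical
    obtain ⟨s, hs⟩ := hss t (by simp)
    rcases s.eq_empty_or_nonempty with rfl | hne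
    · rw [Lagrange.nodal_empty, map_one] at hs
      haveI := subsingleton_of_zero_eq_one hs.symm
      exact Subsingleton.elim _ _
    let e : K → B := fun r => aeval t (Lagrange.basis s id r)
    have he : ∀ w, Commute w t → ∀ r, Commute w (e r) := fun w hw r =>
      Algebra.commute_of_mem_adjoin_of_forall_mem_commute (s := {t}) (R := K) (aeval_mem_adjoin_singleton K t)
        (by rintro _ rfl; exact hw)
    have hte : ∀ r ∈ s, t * e r = r • e r := fun r hr => by
      have h0 : (X - C r) * Lagrange.basis s id r =
          C (Lagrange.nodalWeight s id r) * Lagrange.nodal s id := by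
        rw [Lagrange.basis_eq_prod_sub_inv_mul_nodal_div hr, Lagrange.nodal_eq_mul_nodal_erase hr, id,
          mul_div_cancel_left₀ _ (X_sub_C_ne_zero r)]
        ring
      have h1 := congrArg (aeval t) h0
      rw [map_mul, map_mul, hs, mul_zero, map_sub, aeval_X, aeval_C, sub_mul, sub_eq_zero] at h1
      rw [Algebra.smul_def]
      exact h1
    have het : ∀ r ∈ s, e r * t = r • e r := fun r hr => by
      rw [← (he t (Commute.refl t) r).eq]; exact hte r hr
    have key : ∀ r ∈ s, x * e r = 0 := fun r hr => by
      refine eq_zero_of_commute_list hB T (fun a ha b hb => hcomm a (by simp [ha]) b (by simp [hb]))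
        (fun a ha => hss a (by simp [ha])) _ (fun a ha => (hx a (by simp [ha])).mul_left
          ((he a (hcomm a (by simp [ha]) t (by simp)) r).symm)) fun y hy => ?_
      have h1 : Commute (e r * y * e r) t := by
        show e r * y * e r * t = t * (e r * y * e r)
        rw [mul_assoc (e r * y), het r hr, ← mul_assoc, ← mul_assoc, hte r hr, mul_smul_comm, smul_mul_assoc, smul_mul_assoc]
      have h2 := h (e r * y * e r) fun a ha => by
        rcases List.mem_cons.1 ha with rfl | ha
        · exact h1
        · have h3 := (he a (hcomm a (by simp [ha]) t (by simp)) r).symm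
          exact (h3.mul_left (hy a ha)).mul_left h3
      have h4 : x * e r = e r * x := he x (hx t (by simp)) r
      calc x * e r * y * (x * e r) = x * (e r * y * e r) * x := by rw [show x * e r * y * (x * e r) = x * e r * y * (e r * x) by rw [h4]]; simp only [mul_assoc]
        _ = 0 := h2
    have hsum : ∑ r ∈ s, e r = 1 := by
      simp only [e, ← map_sum]
      rw [Lagrange.sum_basis (v := id) (fun a _ b _ h => h) hne, map_one]
    rw [← mul_one x, ← hsum, Finset.mul_sum]
    exact Finset.sum_eq_zero key

variable {k : Type u} [Field k]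

theorem exists_nodal_eq_zero {K : Type u} [Field K] [Algebra k K] [IsAlgClosed K] {B : Type v} [Ring B] [Algebra K B]
    (t : B) (P : k[X]) (hP : P.Separable) (hm : P.Monic) (h : aeval t (P.map (algebraMap k K)) = 0) :
    ∃ s : Finset K, aeval t (Lagrange.nodal s id) = 0 := by
  classical
  let p := P.map (algebraMap k K)
  refine ⟨p.roots.toFinset, ?_⟩
  have hnd : p.roots.Nodup := nodup_roots hP.map
  have : Lagrange.nodal p.roots.toFinset id = p := by
    conv_rhs => rw [(IsAlgClosed.splits p).eq_prod_roots_of_monic (hm.map _)]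
    rw [Lagrange.nodal, Finset.prod_eq_multiset_prod, Multiset.toFinset_val, hnd.dedup]
    rfl
  rw [this]
  exact h

theorem deriv_eq_zero {R : Type v} [CommRing R] [Algebra k R] {M : Type*} [AddCommGroup M] [Module R M] [Module k M]
    [IsScalarTower k R M] (D : Derivation k R M) {F : Type*} [CommRing F] (ι : F →+* R) (hι : ∀ a, D (ι a) = 0)
    (x : R) (q : F[X]) (hq : q.Separable) (hx : q.eval₂ ι x = 0) : D x = 0 := by
  have key : ∀ p : F[X], D (p.eval₂ ι x) = (derivative p).eval₂ ι x • D x := fun p => by
    induction p using Polynomial.induction_on' with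
    | add a b ha hb => simp only [eval₂_add, map_add, ha, hb, add_smul]
    | monomial n c =>
      rw [eval₂_monomial, derivative_monomial, eval₂_monomial, Derivation.leibniz, hι, smul_zero, add_zero,
        Derivation.leibniz_pow, map_mul, map_natCast, smul_comm, ← mul_smul, ← Nat.cast_smul_eq_nsmul R, ← mul_smul,
        ]
      congr 1
      ring
  obtain ⟨a, b, hab⟩ := hq
  have h1 := congrArg (fun p : F[X] => p.eval₂ ι x) hab
  simp only [eval₂_add, eval₂_mul, eval₂_one, hx, mul_zero, zero_add] at h1
  have h2 := key q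
  rw [hx, map_zero] at h2
  rw [← one_smul R (D x), ← h1, mul_smul, ← h2, smul_zero]

/-- A finite commutative algebra with reduced base change to an algebraically closed field is separable. -/
theorem isSeparable_of_isReduced {K : Type u} [Field K] [Algebra k K] [IsAlgClosed K] {R : Type v} [CommRing R]
    [Algebra k R] [Module.Finite k R] [IsReduced (K ⊗[k] R)] (z : R) : IsSeparable k z := by
  classical
  have hint : IsIntegral k z := Algebra.IsIntegral.isIntegral z
  set P := minpoly k z
  let p := P.map (algebraMap k K)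
  have hpm : p.Monic := (minpoly.monic hint).map _
  let w : K ⊗[k] R := 1 ⊗ₜ z
  let q := Lagrange.nodal p.roots.toFinset id
  have hdvd : p ∣ q ^ p.natDegree := by
    conv_lhs => rw [(IsAlgClosed.splits p).eq_prod_roots_of_monic hpm]
    rw [show q ^ p.natDegree = ∏ r ∈ p.roots.toFinset, (X - C r) ^ p.natDegree by rw [Finset.prod_pow]; rfl,
      Finset.prod_multiset_map_count]
    exact Finset.prod_dvd_prod_of_dvd _ _ fun r _ => pow_dvd_pow _ ((Multiset.count_le_card _ _).trans (card_roots' p))
  have hw0 : aeval w p = 0 := by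
    rw [aeval_map_algebraMap, show w = (Algebra.TensorProduct.includeRight : R →ₐ[k] K ⊗[k] R) z from rfl,
      aeval_algHom_apply, minpoly.aeval, map_zero]
  have hqw : aeval w q = 0 := IsReduced.eq_zero _ ⟨p.natDegree, by
    rw [← map_pow]
    obtain ⟨c, hc⟩ := hdvd
    rw [hc, map_mul, hw0, zero_mul]⟩
  by_contra hns
  have hdeg : q.natDegree < P.natDegree := by
    have h1 : p.natDegree = P.natDegree := natDegree_map _
    rw [show q.natDegree = p.roots.toFinset.card from Lagrange.natDegree_nodal, ← h1]
    refine lt_of_le_of_ne ((Multiset.toFinset_card_le _).trans (card_roots' p)) fun h => hns ?_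
    have hcard : Multiset.card p.roots = p.natDegree := (IsAlgClosed.splits p).natDegree_eq_card_roots.symm
    have hnd : p.roots.Nodup := Multiset.dedup_eq_self.1 (Multiset.eq_of_le_of_card_le (Multiset.dedup_le _) (by
      rw [hcard, ← h]; rfl))
    show P.Separable
    rw [← Polynomial.separable_map (algebraMap k K)]
    exact (nodup_roots_iff_of_splits hpm.ne_zero (IsAlgClosed.splits p)).1 hnd
  have hli : LinearIndependent K fun i : Fin P.natDegree => (1 : K) ⊗ₜ[k] (z ^ (i : ℕ)) :=
    Module.Flat.linearIndependent_one_tmul (linearIndependent_pow z)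
  have hsum : ∑ i : Fin P.natDegree, q.coeff i • ((1 : K) ⊗ₜ[k] (z ^ (i : ℕ))) = 0 := by
    rw [← hqw, aeval_eq_sum_range' hdeg, Finset.sum_fin_eq_sum_range, Finset.sum_congr rfl]
    intro i hi
    rw [dif_pos (Finset.mem_range.1 hi), Algebra.TensorProduct.tmul_pow, one_pow]
  have := Fintype.linearIndependent_iff.1 hli (fun i => q.coeff i) hsum ⟨q.natDegree, hdeg⟩
  exact one_ne_zero ((Lagrange.nodal_monic (s := p.roots.toFinset) (v := id)).coeff_natDegree ▸ this)

theorem isSeparable_of_adjoin {K : Type u} [Field K] [Algebra k K] [IsAlgClosed K] {R : Type v} [CommRing R]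
    [Algebra k R] [Module.Finite k R] (s : Set R) (hs : Algebra.adjoin k s = ⊤)
    (hD : ∀ x ∈ s, KaehlerDifferential.D k R x = 0) (z : R) : IsSeparable k z := by
  have h0 : ∀ x, KaehlerDifferential.D k R x = 0 := fun x =>
    Derivation.eqOn_adjoin (D2 := (0 : Derivation k R (Ω[R⁄k]))) (fun y hy => hD y hy) (hs ▸ Algebra.mem_top : x ∈ Algebra.adjoin k s)
  haveI : Subsingleton (Ω[R⁄k]) := by
    rw [← Submodule.subsingleton_iff R, ← subsingleton_iff_bot_eq_top, ← KaehlerDifferential.span_range_derivation, eq_comm, Submodule.span_eq_bot]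
    rintro _ ⟨x, rfl⟩
    exact h0 x
  haveI : Algebra.FormallyUnramified k R := ⟨inferInstance⟩
  haveI : Algebra.FormallyUnramified K (K ⊗[k] R) := inferInstance
  haveI : IsReduced (K ⊗[k] R) := Algebra.FormallyUnramified.isReduced_of_field K _
  exact isSeparable_of_isReduced (K := K) z

variable {A : Type v} [Ring A] [Algebra k A]

/-- Coefficients in the tensor product. -/
theorem coeff_mul {K : Type u} [Field K] [Algebra k K] {ι : Type*} [DecidableEq ι] (b : Module.Basis ι k K) (a c : A) (y : K ⊗[k] A) (i : ι) :
    TensorProduct.equivFinsuppOfBasisLeft b ((1 : K) ⊗ₜ a * y * (1 : K) ⊗ₜ c) i =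
      a * TensorProduct.equivFinsuppOfBasisLeft b y i * c := by
  induction y using TensorProduct.induction_on with
  | zero => simp
  | add x y hx hy => simp only [mul_add, add_mul, map_add, Finsupp.add_apply, hx, hy]
  | tmul r m =>
    rw [Algebra.TensorProduct.tmul_mul_tmul, Algebra.TensorProduct.tmul_mul_tmul, one_mul, mul_one]
    simp

variable [FiniteDimensional k A]

theorem isSeparable_subalgebra_iff (R : Subalgebra k A) (z : R) : IsSeparable k z ↔ IsSeparable k (z : A) := by
  rw [IsSeparable, IsSeparable, ← minpoly.algHom_eq R.val Subtype.val_injective z]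
  rfl

open scoped Classical in
theorem centralizer_eq (hss : IsSemisimpleRing (AlgebraicClosure k ⊗[k] A)) (L : Subalgebra k A)
    (hL : ∀ x ∈ L, ∀ y ∈ L, x * y = y * x) (hsep : Algebra.IsSeparable k L)
    (hmax : ∀ L' : Subalgebra k A, (∀ x ∈ L', ∀ y ∈ L', x * y = y * x) → Algebra.IsSeparable k L' → L ≤ L' → L' = L) :
    Subalgebra.centralizer k (L : Set A) = L := by
  let K := AlgebraicClosure k
  let C := Subalgebra.centralizer k (L : Set A)
  have hLC : L ≤ C := fun x hx => (Subalgebra.mem_centralizer_iff k).2 fun y hy => hL y hy x hx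
  have hC : ∀ {x}, x ∈ C ↔ ∀ l ∈ L, l * x = x * l := Subalgebra.mem_centralizer_iff k
  have hAsp := fun (x : K ⊗[k] A) h => eq_zero_of_mul_mul x h
  let b := Module.Basis.ofVectorSpace k K
  let E := TensorProduct.equivFinsuppOfBasisLeft (N := A) b
  let lb := Module.finBasis k L
  let T : List (K ⊗[k] A) := List.ofFn fun j => (1 : K) ⊗ₜ (lb j : A)
  have hcoef : ∀ y, (∀ t ∈ T, Commute y t) → ∀ i, E y i ∈ C := fun y hy i => hC.2 fun l hl => by
    have hbl : ∀ j, (lb j : A) * E y i = E y i * (lb j : A) := fun j => by
      have h := congrArg (fun w => E w i) (hy ((1 : K) ⊗ₜ (lb j : A)) (List.mem_ofFn.2 ⟨j, rfl⟩)).eq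
      have h1 := coeff_mul b (lb j : A) 1 y i
      have h2 := coeff_mul b 1 (lb j : A) y i
      rw [← Algebra.TensorProduct.one_def, mul_one, mul_one] at h1
      rw [← Algebra.TensorProduct.one_def, one_mul, one_mul] at h2
      exact h1.symm.trans (h.symm.trans h2)
    have : (⟨l, hl⟩ : L) ∈ Submodule.span k (Set.range lb) := lb.span_eq ▸ trivial
    obtain ⟨f, hf⟩ := (Submodule.mem_span_range_iff_exists_fun k).1 this
    have hl' : l = ∑ j, f j • (lb j : A) := by
      have := congrArg L.val hf
      simpa [map_sum] using this.symm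
    rw [hl', Finset.sum_mul, Finset.mul_sum]
    exact Finset.sum_congr rfl fun j _ => by rw [smul_mul_assoc, mul_smul_comm, hbl]
  have hT1 : ∀ s ∈ T, ∀ t ∈ T, Commute s t := by
    intro s hs t ht
    obtain ⟨i, rfl⟩ := List.mem_ofFn.1 hs
    obtain ⟨j, rfl⟩ := List.mem_ofFn.1 ht
    show _ * _ = _ * _
    rw [Algebra.TensorProduct.tmul_mul_tmul, Algebra.TensorProduct.tmul_mul_tmul, hL _ (lb i).2 _ (lb j).2]
  have hT2 : ∀ t ∈ T, ∃ s : Finset K, aeval t (Lagrange.nodal s id) = 0 := by
    intro t ht
    obtain ⟨j, rfl⟩ := List.mem_ofFn.1 ht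
    have h := (isSeparable_subalgebra_iff L (lb j)).1 (Algebra.IsSeparable.isSeparable k (lb j))
    refine exists_nodal_eq_zero _ (minpoly k (lb j : A)) h (minpoly.monic (Algebra.IsIntegral.isIntegral _)) ?_
    rw [aeval_map_algebraMap, show (1 : K) ⊗ₜ[k] (lb j : A) = (Algebra.TensorProduct.includeRight : A →ₐ[k] K ⊗[k] A) (lb j : A) from rfl,
      aeval_algHom_apply, minpoly.aeval, map_zero]
  have hCT : ∀ x ∈ C, ∀ t ∈ T, Commute ((1 : K) ⊗ₜ[k] x) t := by
    intro x hx t ht
    obtain ⟨j, rfl⟩ := List.mem_ofFn.1 ht
    show _ * _ = _ * _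
    rw [Algebra.TensorProduct.tmul_mul_tmul, Algebra.TensorProduct.tmul_mul_tmul, hC.1 hx _ (lb j).2]
  -- the centralizer is semiprime
  have hCsp : ∀ x ∈ C, (∀ y ∈ C, x * y * x = 0) → x = 0 := fun x hx h => by
    have h0 : ((1 : K) ⊗ₜ[k] x) = 0 := eq_zero_of_commute_list hAsp T hT1 hT2 _ (hCT x hx) fun y hy =>
      E.injective (Finsupp.ext fun i => by rw [coeff_mul, h _ (hcoef y hy i), map_zero, Finsupp.zero_apply])
    exact (Algebra.TensorProduct.includeRight_injective (A := K) (algebraMap k K).injective) (h0.trans (map_zero (Algebra.TensorProduct.includeRight : A →ₐ[k] K ⊗[k] A)).symm)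
  -- the centre of the centralizer is separable, hence equal to `L`
  let Z : Subalgebra k A := C ⊓ Subalgebra.centralizer k (C : Set A)
  have hZcomm : ∀ x ∈ Z, ∀ y ∈ Z, x * y = y * x := fun x hx y hy => (Subalgebra.mem_centralizer_iff k).1 hy.2 x hx.1
  letI : CommRing Z := { (inferInstance : Ring Z) with mul_comm := fun a c => Subtype.ext (hZcomm _ a.2 _ c.2) }
  have hZsep : Algebra.IsSeparable k Z := by
    haveI : IsReduced (K ⊗[k] Z) := (isReduced_iff_pow_one_lt 2 one_lt_two).2 fun w hw => by
      let ι := Algebra.TensorProduct.map (AlgHom.id K K) Z.val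
      have hinj : Function.Injective ι :=
        Module.Flat.lTensor_preserves_injective_linearMap Z.val.toLinearMap Subtype.val_injective
      refine hinj (?_ : ι w = ι 0)
      rw [map_zero]
      refine eq_zero_of_commute_list hAsp T hT1 hT2 _ (fun t ht => ?_) fun y hy => ?_
      · clear hw
        induction w using TensorProduct.induction_on with
        | zero => rw [map_zero]; exact Commute.zero_left _
        | add a c ha hc => rw [map_add]; exact ha.add_left hc
        | tmul r z =>
          have := hCT z z.2.1 t ht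
          rw [Algebra.TensorProduct.map_tmul, show (AlgHom.id K K r) ⊗ₜ[k] Z.val z = r • ((1 : K) ⊗ₜ[k] (z : A)) by
            rw [smul_tmul', smul_eq_mul, mul_one]; rfl]
          exact this.smul_left r
      · have hc : Commute (ι w) y := by
          clear hw
          induction w using TensorProduct.induction_on with
          | zero => rw [map_zero]; exact Commute.zero_left _
          | add a c ha hc => rw [map_add]; exact ha.add_left hc
          | tmul r z =>
            rw [Algebra.TensorProduct.map_tmul, show (AlgHom.id K K r) ⊗ₜ[k] Z.val z = r • ((1 : K) ⊗ₜ[k] (z : A)) by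
              rw [smul_tmul', smul_eq_mul, mul_one]; rfl]
            refine Commute.smul_left (E.injective (Finsupp.ext fun i => ?_)) r
            have h1 := coeff_mul b (z : A) 1 y i
            have h2 := coeff_mul b 1 (z : A) y i
            rw [← Algebra.TensorProduct.one_def, mul_one, mul_one] at h1
            rw [← Algebra.TensorProduct.one_def, one_mul, one_mul] at h2
            exact h1.trans (((Subalgebra.mem_centralizer_iff k).1 z.2.2 _ (hcoef y hy i)).symm.trans h2.symm)
        rw [hc.eq, mul_assoc, ← map_mul, ← sq, hw, map_zero, mul_zero]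
    exact ⟨fun z => isSeparable_of_isReduced (K := K) z⟩
  have hLZ : L ≤ Z := fun x hx => ⟨hLC hx, (Subalgebra.mem_centralizer_iff k).2 fun y hy => (hC.1 hy x hx).symm⟩
  have hZL : Z = L := hmax Z hZcomm hZsep hLZ
  -- separable elements of the centralizer lie in `L`
  have hadj : ∀ x ∈ C, IsSeparable k x → x ∈ L := fun x hx hxs => by
    let L' : Subalgebra k A := Algebra.adjoin k ((L : Set A) ∪ {x})
    have hcomm : ∀ a ∈ L', ∀ c ∈ L', a * c = c * a := fun a ha c hc =>
      (Algebra.commute_of_mem_adjoin_of_forall_mem_commute hc (fun d hd =>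
        (Algebra.commute_of_mem_adjoin_of_forall_mem_commute ha (fun e he => by
          rcases hd with hd | rfl <;> rcases he with he | rfl
          · exact hL d hd e he
          · exact hC.1 hx d hd
          · exact (hC.1 hx e he).symm
          · rfl)).symm)).eq
    letI : CommRing L' := { (inferInstance : Ring L') with mul_comm := fun a c => Subtype.ext (hcomm _ a.2 _ c.2) }
    let s : Set L' := Subtype.val ⁻¹' ((L : Set A) ∪ {x})
    have hs : Algebra.adjoin k s = ⊤ := Algebra.adjoin_adjoin_coe_preimage
    have hsD : ∀ d ∈ s, KaehlerDifferential.D k L' d = 0 := fun d hd => by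
      have hd' : IsSeparable k (d : A) := by
        rcases hd with hd | hd
        · exact (isSeparable_subalgebra_iff L ⟨_, hd⟩).1 (Algebra.IsSeparable.isSeparable k _)
        · rw [Set.mem_singleton_iff.1 hd]; exact hxs
      exact deriv_eq_zero _ (algebraMap k L') (fun a => Derivation.map_algebraMap _ a) d _
        ((isSeparable_subalgebra_iff L' d).2 hd') (minpoly.aeval k d)
    have hsep' : Algebra.IsSeparable k L' := ⟨fun z => isSeparable_of_adjoin (K := K) s hs hsD z⟩
    rw [← hmax L' hcomm hsep' (fun l hl => Algebra.subset_adjoin (Or.inl hl))]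
    exact Algebra.subset_adjoin (Or.inr rfl)
  have hidem : ∀ e : C, e * e = e → ∀ c : C, e * c = c * e := fun e he c => by
    refine Subtype.ext (hC.1 c.2 _ (hadj e e.2 ?_))
    refine Polynomial.Separable.of_dvd (f := X * X - X) ?_ (minpoly.dvd k _ ?_)
    · exact ⟨-4, 2 * X - 1, by simp only [derivative_sub, derivative_mul, derivative_X]; ring⟩
    · rw [map_sub, map_mul, aeval_X, show (e : A) * e = e from congrArg Subtype.val he, sub_self]
  haveI : IsSemisimpleRing C := by
    haveI : IsArtinianRing C := IsArtinianRing.of_finite k C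
    rw [IsArtinianRing.isSemisimpleRing_iff_jacobson, eq_bot_iff]
    intro x hx
    obtain ⟨n, hn⟩ := IsSemiprimaryRing.isNilpotent (R := C)
    have key : ∀ m, ∀ y ∈ (Ring.jacobson C) ^ (m + 1), (Ring.jacobson C) ^ (m + 2) = ⊥ → y = 0 := fun m y hy h0 => by
      refine Subtype.ext (hCsp y y.2 fun w hw => congrArg Subtype.val (show y * ⟨w, hw⟩ * y = 0 from ?_))
      have : y * ⟨w, hw⟩ * y ∈ (Ring.jacobson C) ^ (m + 2) := by
        rw [Ideal.IsTwoSided.pow_succ]
        exact Ideal.mul_mem_mul (Ideal.IsTwoSided.mul_mem_of_left _ (Ideal.pow_le_self (Nat.succ_ne_zero m) hy)) hy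
      rwa [h0, Ideal.mem_bot] at this
    suffices ∀ m, (Ring.jacobson C) ^ (m + 1) = ⊥ → Ring.jacobson C = ⊥ by
      rw [← this n (by rw [Ideal.IsTwoSided.pow_succ, hn]; simp)]; exact hx
    intro m
    induction m with
    | zero => intro h; rwa [zero_add, Submodule.pow_one] at h
    | succ m ih => exact fun h => ih (eq_bot_iff.2 fun y hy => key m y hy h)
  have hcommC : ∀ x c : C, x * c = c * x := by
    obtain ⟨n, D, d, _, _, hd, ⟨φ⟩⟩ := IsSemisimpleRing.exists_algEquiv_pi_matrix_divisionRing k C
    suffices H : ∀ (i : Fin n) (a c : Matrix (Fin (d i)) (Fin (d i)) (D i)), a * c = c * a from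
      fun x c => φ.injective (by rw [map_mul, map_mul]; exact funext fun i => H i _ _)
    intro i
    haveI := hd i
    have hcent : ∀ e : Matrix (Fin (d i)) (Fin (d i)) (D i), e * e = e → ∀ a, e * a = a * e := fun e he a => by
      have h := congrArg φ (hidem (φ.symm (Pi.single i e)) (by rw [← map_mul, ← Pi.single_mul, he]) (φ.symm (Pi.single i a)))
      simpa [Pi.single_mul] using congrFun h i
    have h1 : ∀ j l : Fin (d i), j = l := fun j l => by
      by_contra hjl
      have h := hcent (Matrix.single j j 1) (by simp) (Matrix.single j l 1)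
      have h' := congrFun (congrFun h j) l
      simp [Matrix.mul_apply, Matrix.single_apply, hjl] at h'
    haveI : Subsingleton (Fin (d i)) := ⟨h1⟩
    have hdiag : ∀ a : Matrix (Fin (d i)) (Fin (d i)) (D i), a = Matrix.scalar (Fin (d i)) (a 0 0) := fun a => by
      ext j l; rw [Subsingleton.elim j 0, Subsingleton.elim l 0]; simp
    suffices H : ∀ a c : D i, a * c = c * a from fun a c => by
      rw [hdiag a, hdiag c, ← map_mul, ← map_mul, H]
    let π : C →ₐ[k] D i :=
      { toFun := fun c => φ c i 0 0
        map_one' := by simp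
        map_mul' := fun a c => by simp [Matrix.mul_apply, Fintype.sum_subsingleton _ (0 : Fin (d i))]
        map_zero' := by simp
        map_add' := fun a c => by simp
        commutes' := fun r => by simp [Matrix.algebraMap_matrix_apply] }
    let σ : D i → C := fun a => φ.symm (Pi.single i (Matrix.scalar (Fin (d i)) a))
    have hπσ : ∀ a, π (σ a) = a := fun a => by simp [π, σ]
    haveI : Module.Finite k (D i) := Module.Finite.of_surjective π.toLinearMap fun a => ⟨σ a, hπσ a⟩
    have hsepZ : ∀ a ∈ Subring.center (D i), IsSeparable k a := fun a ha => by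
      have hσ : ∀ c : C, σ a * c = c * σ a := fun c => φ.injective (by
        rw [map_mul, map_mul, AlgEquiv.apply_symm_apply]
        funext l
        by_cases h : l = i
        · subst h
          rw [Pi.mul_apply, Pi.mul_apply, Pi.single_eq_same]
          exact (Matrix.scalar_commute a (fun r => (Subring.mem_center_iff.1 ha r).symm) _).eq
        · simp [Pi.single_eq_of_ne h])
      have hmem : (σ a : A) ∈ Z := ⟨(σ a).2, (Subalgebra.mem_centralizer_iff k).2 fun y hy => (congrArg Subtype.val (hσ ⟨y, hy⟩)).symm⟩
      rw [hZL] at hmem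
      have h' : IsSeparable k (σ a) := (isSeparable_subalgebra_iff C (σ a)).2
        ((isSeparable_subalgebra_iff L ⟨_, hmem⟩).1 (Algebra.IsSeparable.isSeparable k _))
      refine Polynomial.Separable.of_dvd h' (minpoly.dvd k a ?_)
      conv_lhs => arg 1; arg 1; rw [← hπσ a]
      rw [aeval_algHom_apply, minpoly.aeval, map_zero]
    by_contra hne
    haveI : Algebra.IsAlgebraic (Subring.center (D i)) (D i) := by
      letI : Algebra k (Subring.center (D i)) := ((algebraMap k (D i)).codRestrict _ fun r =>
        Subring.mem_center_iff.2 fun g => (Algebra.commutes r g).symm).toAlgebra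
      haveI : IsScalarTower k (Subring.center (D i)) (D i) := IsScalarTower.of_algebraMap_eq fun _ => rfl
      haveI : Module.Finite (Subring.center (D i)) (D i) := Module.Finite.of_restrictScalars_finite k _ _
      infer_instance
    obtain ⟨x, hx, hxs⟩ := JacobsonNoether.exists_separable_and_not_isCentral (D i) (fun h => hne fun a c =>
      Subring.mem_center_iff.1 (h ▸ Subring.mem_top c : c ∈ Subring.center (D i)) a)
    have hxk : IsSeparable k x := by
      let R := Algebra.adjoin k ((Subring.center (D i) : Set (D i)) ∪ {x})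
      have hcomm : ∀ a ∈ R, ∀ c ∈ R, a * c = c * a := fun a ha c hc =>
        (Algebra.commute_of_mem_adjoin_of_forall_mem_commute hc (fun e he =>
          (Algebra.commute_of_mem_adjoin_of_forall_mem_commute ha (fun e' he' => by
            rcases he with he | rfl <;> rcases he' with he' | rfl
            · exact (Subring.mem_center_iff.1 he e').symm
            · exact (Subring.mem_center_iff.1 he _).symm
            · exact Subring.mem_center_iff.1 he' _
            · rfl)).symm)).eq
      letI : CommRing R := { (inferInstance : Ring R) with mul_comm := fun a c => Subtype.ext (hcomm _ a.2 _ c.2) }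
      let ι : Subring.center (D i) →+* R := (Subring.center (D i)).subtype.codRestrict R fun a => Algebra.subset_adjoin (Or.inl a.2)
      have hι : ∀ a, KaehlerDifferential.D k R (ι a) = 0 := fun a =>
        deriv_eq_zero _ (algebraMap k R) (fun r => Derivation.map_algebraMap _ r) (ι a) _
          ((isSeparable_subalgebra_iff R (ι a)).2 (hsepZ a a.2)) (minpoly.aeval k (ι a))
      refine (isSeparable_subalgebra_iff R ⟨x, Algebra.subset_adjoin (Or.inr rfl)⟩).1
        (isSeparable_of_adjoin (K := K) _ (Algebra.adjoin_adjoin_coe_preimage (s := (Subring.center (D i) : Set (D i)) ∪ {x})) (fun d hd => ?_) _)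
      rcases hd with hd | hd
      · exact hι ⟨_, hd⟩
      · refine deriv_eq_zero _ ι hι d _ hxs (Subtype.ext ?_)
        rw [show ((0 : R) : D i) = 0 from rfl]
        show R.val.toRingHom _ = _
        rw [Polynomial.hom_eval₂, show R.val.toRingHom d = x from hd]
        exact minpoly.aeval _ x
    have hx0 : x ≠ 0 := fun h => hx (h ▸ Subring.zero_mem _)
    have hy : IsSeparable k (σ x) := by
      refine Polynomial.Separable.of_dvd (f := X * minpoly k x) (separable_X.mul hxk ?_) (minpoly.dvd k _ (φ.injective ?_))
      · refine (Irreducible.coprime_iff_not_dvd irreducible_X).2 fun h => ?_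
        exact minpoly.coeff_zero_ne_zero (Algebra.IsIntegral.isIntegral x) hx0 (X_dvd_iff.1 h)
      · rw [← aeval_algHom_apply, map_zero, AlgEquiv.apply_symm_apply]
        funext l
        have := aeval_algHom_apply (Pi.evalAlgHom k (fun i => Matrix (Fin (d i)) (Fin (d i)) (D i)) l) (Pi.single i (Matrix.scalar (Fin (d i)) x)) (X * minpoly k x)
        rw [Pi.evalAlgHom_apply] at this
        rw [Pi.zero_apply]
        refine this.symm.trans ?_
        by_cases h : l = i
        · subst h
          let sa : D l →ₐ[k] Matrix (Fin (d l)) (Fin (d l)) (D l) :=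
            { Matrix.scalar (Fin (d l)) with commutes' := fun r => by simp [Matrix.algebraMap_eq_diagonal] }
          rw [Pi.single_eq_same, show Matrix.scalar (Fin (d l)) x = sa x from rfl, aeval_algHom_apply, map_mul, minpoly.aeval, mul_zero, map_zero]
        · simp [Pi.single_eq_of_ne h]
    have hmem := hadj _ (σ x).2 ((isSeparable_subalgebra_iff C _).1 hy)
    refine hx (Subring.mem_center_iff.2 fun g => ?_)
    have h := congrArg π (Subtype.ext (hC.1 (σ g).2 _ hmem) : σ x * σ g = σ g * σ x)
    rw [map_mul, map_mul, hπσ, hπσ] at h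
    exact h.symm
  exact le_antisymm (fun x hx => hZL ▸ ⟨hx, (Subalgebra.mem_centralizer_iff k).2 fun y hy => congrArg Subtype.val (hcommC ⟨y, hy⟩ ⟨x, hx⟩)⟩) hLC

end Groth.Etale71
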